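import Cfsg.Agent.H85.OddSubfield.Short
import Cfsg.Agent.H85.OddSubfield.Param
import Cfsg.Agent.H97.OmegaEight.SubOdd
import Cfsg.Agent.H98.SubfieldOrth.Main

/-!
Subfield groups are maximal in Ω of odd dimension at least seven, in odd characteristic.
-/

set_option autoImplicit false

namespace Cfsg.Agent.H85.OddSubfield

open QuadraticMap Module Cfsg.Agent.Orthogonal Cfsg.Agent.H98 Cfsg.Agent.H98.SubfieldOrth
open Cfsg.Agent.H98.SubfieldOrth.RatStr
open Cfsg.Agent.H97.OmegaEight.Sub (take_vec exists_split exists_two invol_even)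
open scoped Matrix

section Abstract

variable {F V : Type*} [Field F] [Finite F] [AddCommGroup V] [Module F V] [FiniteDimensional F V]
  {Q : QuadraticForm F V} {F₀ : Subfield F} {R : RatStr Q F₀} {X : Subgroup (O Q)}

variable (hQ : Nondeg Q) (h2 : (2 : F) ≠ 0) (hn : 7 ≤ finrank F V) (hX : R.Over X) (hT : R.NoNew X)
include hQ h2 hn hX hT

/-- An element carrying a rational involution with two proper eigenspaces to a rational one preserves the rational
structure. -/
theorem stab_of_pair {g s w : O Q} (hg : g ∈ X) (hsR : R.RatEl s) (hs : s * s = 1) (hwR : R.RatEl w)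
    (hw : w * w = 1) (h : g * s = w * g) (hp : 0 < finrank F (eig s (1 : F)))
    (hm : 0 < finrank F (eig s (-1 : F))) : R.Stab g := by
  have := R.finiteDimensional
  have hsum := finrank_eig_add h2 hs
  obtain ⟨η, hη, hη', hpos, hsmall⟩ : ∃ η : F, (η = 1 ∨ η = -1) ∧ (-η = 1 ∨ -η = -1) ∧
      0 < finrank F (eig s η) ∧ finrank F (eig s η) + finrank F (eig s (-η)) = finrank F V ∧
      finrank F (eig s η) ≤ finrank F (eig s (-η)) := by
    rcases le_total (finrank F (eig s (1 : F))) (finrank F (eig s (-1 : F))) with hle | hle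
    · exact ⟨1, Or.inl rfl, Or.inr rfl, hp, hsum, hle⟩
    · exact ⟨-1, Or.inr rfl, Or.inl (neg_neg 1), hm, by rw [neg_neg]; omega, by rw [neg_neg]; exact hle⟩
  obtain ⟨hsum', hle⟩ := hsmall
  have hwη := finrank_eig_of_conj h η
  have hwη' := finrank_eig_of_conj h (-η)
  obtain ⟨⟨y, hyE⟩, hy0, hy⟩ := (nondeg_eig₀ h2 hsR hs hη').exists_singular
    (by rw [finrank_eig₀ h2 hsR hs hη']; omega)
  rw [restr_apply] at hy
  have hy0' : y ≠ 0 := fun e => hy0 (Subtype.ext e)
  have hgy : (g : V ≃ₗ[F] V) y ∈ eig w (-η) := mem_eig.2 (by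
    rw [app_conj h, R.mem_eig₀.1 hyE, map_smul])
  have hperp : ∀ v : R.V₀, v ∈ R.eig₀ w η → polar Q (v : V) ((g : V ≃ₗ[F] V) y) = 0 := fun v hv =>
    eig_orth h2 hη (mem_eig.2 (R.mem_eig₀.1 hv)) hgy
  by_cases h3 : 3 ≤ finrank F (eig s η)
  · exact stab_of_perp hQ hn hX hT hg hy0' hy (nondeg_eig₀ h2 hwR hw hη)
      (by rw [finrank_eig₀ h2 hwR hw hη]; omega) hperp
  obtain ⟨a, haE, ha⟩ : ∃ a ∈ R.eig₀ s η, R.Q₀ a ≠ 0 := by
    by_contra hcon
    push Not at hcon
    have h0 : R.eig₀ s η = ⊥ := (Submodule.eq_bot_iff _).2 fun x hx => by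
      have := nondeg_eig₀ h2 hsR hs hη ⟨x, hx⟩ fun z => by
        rw [polar_restr, QuadraticMap.polar, hcon _ hx, hcon _ z.2, hcon _ ((R.eig₀ s η).add_mem hx z.2)]
        simp
      exact congrArg Subtype.val this
    have := finrank_eig₀ h2 hsR hs hη
    rw [h0, finrank_bot] at this
    omega
  have hya : polar R.Q₀ y a = 0 := Subtype.ext (by
    rw [R.polar_coe, ZeroMemClass.coe_zero, polar_comm]
    exact eig_orth h2 hη (mem_eig.2 (R.mem_eig₀.1 haE)) (mem_eig.2 (R.mem_eig₀.1 hyE)))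
  have hga : (g : V ≃ₗ[F] V) a ∈ eig w η := mem_eig.2 (by rw [app_conj h, R.mem_eig₀.1 haE, map_smul])
  set U := R.eig₀ w (-η) with hU
  have hUn := nondeg_eig₀ h2 hwR hw hη'
  have hperpU : perp R.Q₀ U = R.eig₀ w η := by
    have hsub : R.eig₀ w η ≤ perp R.Q₀ U := fun v hv u hu => Subtype.ext (by
      rw [R.polar_coe, ZeroMemClass.coe_zero, polar_comm]
      exact eig_orth h2 hη (mem_eig.2 (R.mem_eig₀.1 hv)) (mem_eig.2 (R.mem_eig₀.1 hu)))
    refine (Submodule.eq_of_le_of_finrank_le hsub ?_).symm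
    · have h1 := R.nondeg.finrank_add_perp U
      have h4 : finrank F₀ R.V₀ = finrank F V := R.finrank_eq
      rw [hU, finrank_eig₀ h2 hwR hw hη'] at h1
      rw [finrank_eig₀ h2 hwR hw hη, hU]
      omega
  obtain ⟨c, hc, hcy⟩ := rational_centre_short hQ hn hX hT h2 ((hX.sIn hQ (by omega) hy hya).conj hg)
    (fun e => hy0' (Subtype.ext ((g : V ≃ₗ[F] V).map_eq_zero_iff.1 e)))
    (by rw [O.map_app, ← R.coe]; exact fun e => ha (Subtype.ext e))
    hUn (by rw [finrank_eig₀ h2 hwR hw hη']; omega)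
    (fun v hv => by rw [polar_comm]; exact eig_orth h2 hη hga (mem_eig.2 (R.mem_eig₀.1 hv)))
    (fun v hv => hperp v (hperpU ▸ hv))
  exact stab_of_point hQ hn hX hT hg hy0' hy hc hcy

/-- No new parameters: every element of `X` preserves the rational structure up to a scalar. -/
theorem stab_of_noNew (hodd : Odd (finrank F V)) {g : O Q} (hg : g ∈ X) : R.Stab g := by
  have := R.finiteDimensional
  have hO : Finite (O Q) := finite_O
  have hd0 : finrank F₀ R.V₀ = finrank F V := R.finrank_eq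
  obtain ⟨a₁, -, qa₁, D₁, -, hD₁n, hD₁d, ho₁⟩ := take_vec (R := R) h2 (nondeg_restr_top R.nondeg)
    (by rw [finrank_top]; omega) (one_ne_zero (α := F₀))
  rw [finrank_top] at hD₁d
  obtain ⟨a₂, ha₂, qa₂, D₂, hD₂, hD₂n, hD₂d, ho₂⟩ := take_vec h2 hD₁n (by omega) (one_ne_zero (α := F₀))
  obtain ⟨a₃, ha₃, qa₃, D₃, hD₃, hD₃n, hD₃d, ho₃⟩ := take_vec h2 hD₂n (by omega) (one_ne_zero (α := F₀))
  obtain ⟨a₄, ha₄, qa₄, -⟩ := take_vec h2 hD₃n (by omega) (one_ne_zero (α := F₀))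
  obtain ⟨t, htc, htR, htt, htk, -⟩ := exists_split hQ h2 one_ne_zero one_ne_zero qa₁ qa₂ qa₃ qa₄
    (ho₁ _ ha₂) (ho₁ _ (hD₂ ha₃)) (ho₁ _ (hD₂ (hD₃ ha₄))) (ho₂ _ ha₃) (ho₂ _ (hD₃ ha₄)) (ho₃ _ ha₄)
  obtain ⟨r, hrc, hrR, hrr, hrk⟩ := exists_two hQ h2 qa₁ qa₂ (ho₁ _ ha₂)
  have htX := hX.rat t htc htR
  have hrX := hX.rat r hrc hrR
  set r' := g * r * g⁻¹ with hr'
  have hr'r' : r' * r' = 1 := by
    rw [hr', show g * r * g⁻¹ * (g * r * g⁻¹) = g * (r * r) * g⁻¹ by group, hrr, mul_one, mul_inv_cancel]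
  obtain ⟨j, hzz, hz1, hzt, hzr, -⟩ := exists_central htt hr'r' fun k hk => by
    have h1 := finrank_eig_conj k t (-1 : F)
    rw [hk, finrank_eig_conj, htk, hrk] at h1
    omega
  set z := (t * r') ^ j with hz
  have hzX : z ∈ X := pow_mem (mul_mem htX (mul_mem (mul_mem hg hrX) (inv_mem hg))) j
  have hts := finrank_eig_add h2 htt
  have hrs := finrank_eig_add h2 hrr
  have hrat : ∀ {x : O Q}, x * x = 1 → R.Stab x → R.RatEl x := fun {x} hx hS => by
    refine ratEl_of_unequal (by omega) hS fun he => ?_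
    have := finrank_eig_add h2 hx
    obtain ⟨m, hm⟩ := hodd
    omega
  have hzR : R.RatEl z := hrat hzz
    (stab_of_pair hQ h2 hn hX hT hzX htR htt htR htt hzt.eq (by omega) (by omega))
  set z' := g⁻¹ * z * g with hz'
  have hgz : g * z' = z * g := by rw [hz']; group
  have hz'r : z' * r = r * z' := by
    rw [hz', show g⁻¹ * z * g * r = g⁻¹ * (z * r') * g by rw [hr']; group, hzr.eq, hr']
    group
  have hz'z' : z' * z' = 1 := by
    rw [hz', show g⁻¹ * z * g * (g⁻¹ * z * g) = g⁻¹ * (z * z) * g by group, hzz, mul_one, inv_mul_cancel]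
  have hz'R : R.RatEl z' := hrat hz'z'
    (stab_of_pair hQ h2 hn hX hT (mul_mem (mul_mem (inv_mem hg) hzX) hg) hrR hrr hrR hrr hz'r (by omega) (by omega))
  have hne : 0 < finrank F (eig z (-1 : F)) := by
    by_contra h0
    refine hz1 (O.ext_app fun v => ?_)
    have hmem : v - (z : V ≃ₗ[F] V) v ∈ eig z (-1 : F) := by
      rw [mem_eig, map_sub, invol_app hzz, neg_one_smul, neg_sub]
    rw [(Submodule.finrank_eq_zero (R := F) (M := V) (S := eig z (-1 : F))).1 (by omega), Submodule.mem_bot, sub_eq_zero] at hmem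
    exact hmem.symm
  obtain ⟨m, hm⟩ := invol_even h2 hzz (hX.le hzX)
  obtain ⟨m', hm'⟩ := hodd
  have hzs := finrank_eig_add h2 hzz
  exact stab_of_pair hQ h2 hn hX hT hg hz'R hz'z' hzR hzz hgz
    (by rw [finrank_eig_of_conj hgz]; omega) (by rw [finrank_eig_of_conj hgz]; omega)

end Abstract

section Main

variable {F : Type*} [Field F] [Fintype F] {ι : Type} [Fintype ι] [DecidableEq ι]
variable (F₀ : Subfield F) (P : GL ι F) (Q : QuadraticForm F (ι → F))

/-- Maximality of the subfield group in Ω. -/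
theorem isMaximalIn_subfield (hQ : Nondeg Q) (h2 : (2 : F) ≠ 0) (hn : 7 ≤ Fintype.card ι) (hnodd : Odd (Fintype.card ι))
    (r : ℕ) (hr : r.Prime) (hcard : Fintype.card F = Nat.card F₀ ^ r)
    (hP : Cfsg.Geo.IsQuadFormRationalStructure (⇑Q) F₀ P) :
    Cfsg.Geo.IsMaximalIn (Cfsg.Geo.omegaGL ⇑Q) (Cfsg.Geo.subfieldSubgroup F₀ P ⊓ Cfsg.Geo.omegaGL ⇑Q) := by
  obtain ⟨R, hR⟩ := exists_ratStr F₀ P Q hQ hP
  have hd : 7 ≤ finrank F (ι → F) := by rwa [Module.finrank_fintype_fun_eq_card]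
  have hdodd : Odd (finrank F (ι → F)) := by rwa [Module.finrank_fintype_fun_eq_card]
  have hd0 : finrank F₀ R.V₀ = finrank F (ι → F) := R.finrank_eq
  have hmax := subfield_cases hr hcard
  have := R.finiteDimensional
  have hmem : ∀ x : O Q, H96.om Q x ∈ Cfsg.Geo.subfieldSubgroup F₀ P ↔ R.Stab x := fun x => by
    rw [mem_subfieldSubgroup_iff]
    refine exists_congr fun c => and_congr_right fun _ => ?_
    rw [hR]
    refine forall₂_congr fun v _ => ?_
    rw [H96.om_mulVec]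
  refine ⟨lt_of_le_not_ge inf_le_right fun h => ?_, fun M hM hMG => ?_⟩
  · obtain ⟨e, -, f, -, he, hf, hef, he0, C, -, hC, hdC, hCef⟩ :=
      exists_hyp R.nondeg (nondeg_restr_top R.nondeg) (by rw [finrank_top]; omega)
    rw [finrank_top] at hdC
    obtain ⟨x, hxC, y, hyC, hx, -, hxy, -⟩ := exists_hyp R.nondeg hC (by omega)
    obtain ⟨a, ha⟩ : ∃ a : F, a ∉ F₀ := by
      by_contra hc
      push Not at hc
      have h1 : Nat.card F₀ = Fintype.card F := by
        rw [← Nat.card_eq_fintype_card]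
        exact Nat.card_congr (Equiv.subtypeUnivEquiv hc)
      rw [h1] at hcard
      have h3 := Nat.pow_lt_pow_right (Fintype.one_lt_card (α := F)) hr.one_lt
      rw [pow_one, ← hcard] at h3
      exact lt_irrefl _ h3
    have hex : polar Q (e : ι → F) (a • (x : ι → F)) = 0 := by
      rw [polar_smul_right', R.orth (hCef x hxC).1, mul_zero]
    set s := sie (e : ι → F) (a • (x : ι → F)) (R.sing he) hex with hs
    have hsS := (hmem s).1 (h ((H96.mem_omegaGL_iff Q _).2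
      ⟨s, OrthMax.sie_mem_commutator hQ (by omega) _ _, rfl⟩)).1
    obtain ⟨c, hc, hcV⟩ := hsS
    have h1 := hcV e e.2
    rw [hs, sie_fix] at h1
    have hcF : c⁻¹ ∈ F₀ := by
      have := R.polar_mem f ⟨_, h1⟩
      rwa [polar_smul_right', polar_comm, R.one hef, mul_one] at this
    have h3 : polar Q (f : ι → F) (c⁻¹ • (s : (ι → F) ≃ₗ[F] (ι → F)) y) ∈ F₀ := R.polar_mem f ⟨_, hcV y y.2⟩
    rw [hs, sie_app, polar_smul_left', R.one hxy, R.orth (hCef y hyC).1, mul_one, mul_zero, sub_zero, zero_smul,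
      sub_zero, polar_smul_right', polar_add_right, polar_smul_right', R.orth (hCef y hyC).2,
      polar_comm (⇑Q) (f : ι → F) (e : ι → F), R.one hef, zero_add, mul_one] at h3
    refine ha ?_
    have := F₀.mul_mem (F₀.inv_mem hcF) h3
    rwa [inv_inv, ← mul_assoc, mul_inv_cancel₀ hc, one_mul] at this
  by_cases hMS : M ≤ Cfsg.Geo.subfieldSubgroup F₀ P
  · exact Or.inl (le_antisymm (le_inf hMS hMG) hM)
  refine Or.inr (le_antisymm hMG ?_)
  set X := M.comap (H96.om Q) with hX'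
  have hX : R.Over X := by
    refine ⟨fun s hs hsR => hM ⟨(hmem s).2 ⟨1, one_ne_zero, fun v hv => ?_⟩,
      (H96.mem_omegaGL_iff Q _).2 ⟨s, hs, rfl⟩⟩, fun s hs => ?_⟩
    · rw [inv_one, one_smul]; exact hsR v hv
    · obtain ⟨y, hy, hye⟩ := (H96.mem_omegaGL_iff Q _).1 (hMG hs)
      exact H96.om_injective Q hye ▸ hy
  obtain ⟨g, hg, hgS⟩ := SetLike.not_le_iff_exists.1 hMS
  obtain ⟨x, hx, rfl⟩ := (H96.mem_omegaGL_iff Q g).1 (hMG hg)
  have hT : ¬ R.NoNew X := fun hT => hgS ((hmem x).2 (stab_of_noNew hQ h2 hd hX hT hdodd hg))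
  have hle := sieGroup_le_of_new hQ hd hX hmax hT
  intro g hg
  obtain ⟨y, hy, rfl⟩ := (H96.mem_omegaGL_iff Q g).1 hg
  rw [← sieGroup_eq_commutator hQ (by omega)] at hy
  exact hle hy

end Main

end Cfsg.Agent.H85.OddSubfield
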