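import Cfsg.Agent.H85.OddSubfield.Points

/-!
A root element with an anisotropic vector orthogonal to a rational five-space has a rational centre.
-/

set_option autoImplicit false

namespace Cfsg.Agent.H85.OddSubfield

open QuadraticMap Module Cfsg.Agent.Orthogonal Cfsg.Agent.H98 Cfsg.Agent.H98.SubfieldOrth
open Cfsg.Agent.H98.SubfieldOrth.RatStr (not_mem_line)

variable {F V : Type*} [Field F] [Finite F] [AddCommGroup V] [Module F V] [FiniteDimensional F V]
  {Q : QuadraticForm F V} {F₀ : Subfield F} {R : RatStr Q F₀} {X : Subgroup (O Q)}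

variable (hQ : Nondeg Q) (hn : 7 ≤ finrank F V) (hX : R.Over X) (hT : R.NoNew X)
include hQ hn hX hT

/-- A root element whose centre is orthogonal to a rational three-space has a rational centre, as soon as its
vector is not orthogonal to all singular vectors of that space. -/
theorem rational_centre {p b : V} (h : SIn X p b) {C : Submodule F₀ R.V₀} (hC : Nondeg (restr R.Q₀ C))
    (hd : 3 ≤ finrank F₀ C) (horth : ∀ c ∈ C, polar Q (c : V) p = 0) {x : R.V₀} (hxC : x ∈ C)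
    (hx : R.Q₀ x = 0) (hxb : polar Q (x : V) b ≠ 0) : ∃ a : F, a ≠ 0 ∧ a • p ∈ R.V₀ := by
  have := R.finiteDimensional
  have h5 : 5 ≤ finrank F V := by omega
  have hx0 : x ≠ 0 := fun e => hxb (by rw [e, ZeroMemClass.coe_zero, polar_zero_left])
  obtain ⟨z, hzC, hz, hxz, C', hC'le, hC', hdC', hC'x, -⟩ := exists_hyp_at R.nondeg hC hxC hx0 hx
  obtain ⟨a₀, ha₀, b₀, hb₀, hab₀⟩ : ∃ a₀ ∈ C', ∃ b₀ ∈ C', polar R.Q₀ a₀ b₀ = 1 := by
    obtain ⟨⟨a₀, ha₀⟩, ha0⟩ := (Module.finrank_pos_iff_exists_ne_zero (R := F₀) (M := C')).1 (by omega)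
    obtain ⟨b₀, hb₀⟩ := hC'.exists_polar_eq ha0 1
    rw [polar_restr] at hb₀
    exact ⟨a₀, ha₀, b₀, b₀.2, hb₀⟩
  have hpC : ∀ c ∈ C, polar Q p (c : V) = 0 := fun c hc => by rw [polar_comm]; exact horth c hc
  have hs := sIn_defect hQ h5 hX h hx (hpC x hxC) (hC'x a₀ ha₀).1 (hC'x b₀ hb₀).1
    (hpC a₀ (hC'le ha₀)) (hpC b₀ (hC'le hb₀)) hab₀
  set α := polar Q (x : V) b
  obtain ⟨δ, hδ⟩ := point hQ hn hX hT hx0 hx (hs.swap (R.sing hx) (hpC x hxC))
  refine ⟨α, hxb, ?_⟩
  have hδ' : δ ∈ F₀ := by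
    have := R.polar_mem z ⟨_, hδ⟩
    rw [polar_sub_right, polar_smul_right', polar_smul_right', horth z hzC, polar_comm (⇑Q) (z : V) (x : V),
      R.one hxz, mul_zero, zero_sub, mul_one] at this
    simpa using F₀.neg_mem this
  have := R.V₀.neg_mem (R.V₀.add_mem hδ (R.V₀.smul_mem (⟨δ, hδ'⟩ : F₀) x.2))
  convert this using 1
  rw [Subfield.smul_def, sub_add_cancel, ← neg_smul, neg_neg]

/-- The values of the centre on two orthogonal rational singular vectors have rational ratio. -/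
theorem ratio_mem {p b : V} (hb : SIn X p b) (hQb : Q b ≠ 0) {U : Submodule F₀ R.V₀}
    (hU : Nondeg (restr R.Q₀ U)) (hbU : ∀ v ∈ U, polar Q (v : V) b = 0)
    (hpU : ∀ v ∈ perp R.Q₀ U, polar Q (v : V) p = 0) {u w : R.V₀} (hu : u ∈ U) (hw : w ∈ U)
    (hQu : R.Q₀ u = 0) (hQw : R.Q₀ w = 0) (huw : polar R.Q₀ u w = 0) (hne : polar Q (u : V) p ≠ 0) :
    polar Q (w : V) p / polar Q (u : V) p ∈ F₀ := by
  have := R.finiteDimensional
  have h5 : 5 ≤ finrank F V := by omega
  have hu0 : u ≠ 0 := fun e => hne (by rw [e, ZeroMemClass.coe_zero, polar_zero_left])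
  obtain ⟨f, hfU, hf, huf, C₁, hC₁U, hC₁, -, hC₁u, hC₁m⟩ := exists_hyp_at R.nondeg hU hu hu0 hQu
  -- the part orthogonal to the hyperbolic pair
  set w' := w - polar R.Q₀ f w • u with hw'
  have hw'C : w' ∈ C₁ := hC₁m _ (U.sub_mem hw (U.smul_mem _ hu))
    (by simp only [hw', polar_sub_right, polar_smul_right', polar_self', hQu, huw]; ring)
    (by simp only [hw', polar_sub_right, polar_smul_right', polar_comm (⇑R.Q₀) f u, huf]; ring)
  have hQw' : R.Q₀ w' = 0 := by
    rw [hw', qmap_sub, qmap_smul, polar_smul_right', hQw, hQu, polar_comm (⇑R.Q₀) w u, huw]; ring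
  suffices hmain : polar Q (w' : V) p / polar Q (u : V) p ∈ F₀ by
    have := F₀.add_mem hmain (SetLike.coe_mem (polar R.Q₀ f w))
    convert this using 1
    rw [hw', Submodule.coe_sub, R.coe_smul, polar_sub_left, polar_smul_left']
    field_simp
    ring
  rcases eq_or_ne w' 0 with h0 | h0
  · rw [h0, ZeroMemClass.coe_zero, polar_zero_left, zero_div]; exact F₀.zero_mem
  obtain ⟨g₂, hg₂C, hg₂, hwg₂, -⟩ := exists_hyp_at R.nondeg hC₁ hw'C h0 hQw'
  -- the orthogonal of the two pairs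
  have hP₁ := nondeg_hyperbolic_plane hQu hf huf
  have hP₂ := nondeg_hyperbolic_plane hQw' hg₂ hwg₂
  obtain ⟨hC, -, hdC⟩ := R.nondeg.nondeg_inf_perp (R.nondeg.nondeg_perp hP₁) hP₂ (by
    rw [Submodule.span_le]
    rintro _ (rfl | rfl) <;> refine (mem_perp_span_pair R.Q₀).2 ⟨?_, ?_⟩
    · exact (hC₁u _ hw'C).1
    · exact (hC₁u _ hw'C).2
    · exact (hC₁u _ hg₂C).1
    · exact (hC₁u _ hg₂C).2)
  have hd0 : finrank F₀ R.V₀ = finrank F V := R.finrank_eq
  have hdP := R.nondeg.finrank_add_perp (Submodule.span F₀ {u, f})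
  rw [finrank_hyperbolic_plane hQu hf huf] at hdP
  rw [finrank_hyperbolic_plane hQw' hg₂ hwg₂] at hdC
  set C := perp R.Q₀ (Submodule.span F₀ {u, f}) ⊓ perp R.Q₀ (Submodule.span F₀ {w', g₂}) with hCdef
  set c := polar Q (w' : V) p / polar Q (u : V) p with hc
  set e := (w' : V) - c • (u : V) with he
  have hpu : polar Q p (u : V) = polar Q (u : V) p := polar_comm ..
  have hpw : polar Q p (w' : V) = c * polar Q (u : V) p := by
    rw [polar_comm, hc, div_mul_cancel₀ _ hne]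
  have hbu : polar Q b (u : V) = 0 := by rw [polar_comm]; exact hbU u hu
  have hbw : polar Q b (w' : V) = 0 := by rw [polar_comm]; exact hbU w' (hC₁U hw'C)
  obtain ⟨hQp, hpb, hm⟩ := hb
  set h := sie p b hQp hpb with hh
  have h1 : SIn X ((h : V ≃ₗ[F] V) u) ((h : V ≃ₗ[F] V) w') :=
    (hX.sIn hQ h5 hQu ((hC₁u _ hw'C).1)).conj hm
  have hhe : (h : V ≃ₗ[F] V) w' + (-c) • (h : V ≃ₗ[F] V) u = e := by
    rw [hh, sie_app, sie_app, hbu, hbw, hpu, hpw, he]
    module
  have hQe : Q e = 0 := by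
    rw [he, qmap_sub, qmap_smul, polar_smul_right', R.sing hQw', R.sing hQu, polar_comm (⇑Q) (w' : V) (u : V),
      R.orth (hC₁u _ hw'C).1]
    ring
  have hbase : polar Q ((h : V ≃ₗ[F] V) u) e = 0 := by
    rw [← hhe, polar_add_right, polar_smul_right', O.polar_app, polar_self', O.map_app, R.sing hQu,
      R.orth (hC₁u _ hw'C).1]
    ring
  have h2 : SIn X e ((-1 : F) • (h : V ≃ₗ[F] V) u) :=
    SIn.swap (a := 1) ((h1.add_smul (-c)).congr rfl (by rw [one_smul]; exact hhe)) hQe hbase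
  have horth : ∀ x ∈ C, polar Q (x : V) e = 0 := fun x hx => by
    obtain ⟨hx1, -⟩ := (mem_perp_span_pair R.Q₀).1 hx.1
    obtain ⟨hx2, -⟩ := (mem_perp_span_pair R.Q₀).1 hx.2
    rw [he, polar_sub_right, polar_smul_right', polar_comm (⇑Q) (x : V) (w' : V), polar_comm (⇑Q) (x : V) (u : V),
      R.orth hx1, R.orth hx2]
    ring
  -- some singular vector of `C` sees the vector of the new root element
  let S : Submodule F₀ R.V₀ :=
    { carrier := {x | polar Q (x : V) ((-1 : F) • (h : V ≃ₗ[F] V) u) = 0}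
      add_mem' := fun {x y} hx hy => by
        show polar Q ((x + y : R.V₀) : V) _ = 0
        rw [Submodule.coe_add, polar_add_left, hx, hy, add_zero]
      zero_mem' := by
        show polar Q ((0 : R.V₀) : V) _ = 0
        rw [ZeroMemClass.coe_zero, polar_zero_left]
      smul_mem' := fun a x hx => by
        show polar Q ((a • x : R.V₀) : V) _ = 0
        rw [R.coe_smul, polar_smul_left', hx, mul_zero] }
  obtain ⟨x, hxC, hx, hxb⟩ : ∃ x ∈ C, R.Q₀ x = 0 ∧ polar Q (x : V) ((-1 : F) • (h : V ≃ₗ[F] V) u) ≠ 0 := by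
    by_contra hcon
    push Not at hcon
    have hCS : C ≤ S := le_of_singular hC (by omega) S hcon
    have hb0 : b ≠ 0 := fun e0 => hQb (by rw [e0, QuadraticMap.map_zero])
    refine hb0 (R.eq_zero_of_orth hQ fun v => ?_)
    obtain ⟨q, hq, r, hr, hv⟩ := Submodule.mem_sup.1
      ((R.nondeg.isCompl_perp hU).sup_eq_top ▸ Submodule.mem_top : v ∈ U ⊔ perp R.Q₀ U)
    rw [← hv, Submodule.coe_add, polar_comm, polar_add_left, hbU q hq, zero_add]
    have hrC : r ∈ C := ⟨(mem_perp_span_pair R.Q₀).2 ⟨hr u hu, hr f hfU⟩,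
      (mem_perp_span_pair R.Q₀).2 ⟨hr w' (hC₁U hw'C), hr g₂ (hC₁U hg₂C)⟩⟩
    have hrS : polar Q (r : V) ((-1 : F) • (h : V ≃ₗ[F] V) u) = 0 := hCS hrC
    have hru : polar Q (r : V) (u : V) = 0 := by rw [polar_comm]; exact R.orth (hr u hu)
    rw [polar_smul_right', hh, sie_app, hbu, hpu, polar_sub_right, polar_add_right, polar_smul_right',
      polar_smul_right', hru, hpU r hr] at hrS
    refine (mul_eq_zero.1 (show polar Q (u : V) p * polar Q (r : V) b = 0 from ?_)).resolve_left hne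
    linear_combination hrS
  obtain ⟨a, ha, hae⟩ := rational_centre hQ hn hX hT h2 hC (by omega) horth hxC hx hxb
  -- read off the ratio
  have e1 : polar Q (g₂ : V) (a • e) ∈ F₀ := R.polar_mem g₂ ⟨_, hae⟩
  have e2 : polar Q (f : V) (a • e) ∈ F₀ := R.polar_mem f ⟨_, hae⟩
  rw [he, polar_smul_right', polar_sub_right, polar_smul_right', polar_comm (⇑Q) (g₂ : V) (w' : V), R.one hwg₂,
    polar_comm (⇑Q) (g₂ : V) (u : V), R.orth (hC₁u _ hg₂C).1] at e1
  rw [he, polar_smul_right', polar_sub_right, polar_smul_right', polar_comm (⇑Q) (f : V) (u : V), R.one huf,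
    R.orth (hC₁u _ hw'C).2] at e2
  have := F₀.neg_mem (F₀.div_mem e2 e1)
  convert this using 1
  field_simp
  ring

/-- A root element whose centre lies in a rational five-space and whose anisotropic vector is orthogonal to it has
a rational centre. -/
theorem rational_centre_short (h2 : (2 : F) ≠ 0) {p b : V} (hb : SIn X p b) (hp0 : p ≠ 0) (hQb : Q b ≠ 0) {U : Submodule F₀ R.V₀}
    (hU : Nondeg (restr R.Q₀ U)) (hd : 5 ≤ finrank F₀ U) (hbU : ∀ v ∈ U, polar Q (v : V) b = 0)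
    (hpU : ∀ v ∈ perp R.Q₀ U, polar Q (v : V) p = 0) : ∃ a : F, a ≠ 0 ∧ a • p ∈ R.V₀ := by
  have := R.finiteDimensional
  have hzero : ∀ {S : Submodule F₀ R.V₀}, U ≤ S → perp R.Q₀ U ≤ S → S = ⊤ := fun h1 h2 => by
    rw [eq_top_iff, ← (R.nondeg.isCompl_perp hU).sup_eq_top]; exact sup_le h1 h2
  let K : F → Submodule F₀ R.V₀ := fun d =>
    { carrier := {v | d * polar Q (v : V) p ∈ F₀}
      add_mem' := fun {x y} hx hy => by
        show d * polar Q ((x + y : R.V₀) : V) p ∈ F₀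
        rw [Submodule.coe_add, polar_add_left, mul_add]; exact F₀.add_mem hx hy
      zero_mem' := by
        show d * polar Q ((0 : R.V₀) : V) p ∈ F₀
        rw [ZeroMemClass.coe_zero, polar_zero_left, mul_zero]; exact F₀.zero_mem
      smul_mem' := fun a x hx => by
        show d * polar Q ((a • x : R.V₀) : V) p ∈ F₀
        rw [R.coe_smul, polar_smul_left', mul_left_comm]; exact F₀.mul_mem a.2 hx }
  let Z : Submodule F₀ R.V₀ :=
    { carrier := {v | polar Q (v : V) p = 0}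
      add_mem' := fun {x y} hx hy => by
        show polar Q ((x + y : R.V₀) : V) p = 0
        rw [Submodule.coe_add, polar_add_left, hx, hy, add_zero]
      zero_mem' := by
        show polar Q ((0 : R.V₀) : V) p = 0
        rw [ZeroMemClass.coe_zero, polar_zero_left]
      smul_mem' := fun a x hx => by
        show polar Q ((a • x : R.V₀) : V) p = 0
        rw [R.coe_smul, polar_smul_left', hx, mul_zero] }
  obtain ⟨u, hu, hQu, hne⟩ : ∃ u ∈ U, R.Q₀ u = 0 ∧ polar Q (u : V) p ≠ 0 := by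
    by_contra hcon
    push Not at hcon
    have hUZ : U ≤ Z := le_of_singular hU (by omega) Z hcon
    have hZ := hzero hUZ hpU
    refine hp0 (R.eq_zero_of_orth hQ fun v => ?_)
    rw [polar_comm]
    exact (hZ ▸ Submodule.mem_top : v ∈ Z)
  have hu0 : u ≠ 0 := fun e => hne (by rw [e, ZeroMemClass.coe_zero, polar_zero_left])
  set d := (polar Q (u : V) p)⁻¹ with hd'
  refine ⟨d, inv_ne_zero hne, R.mem_of_polar hQ fun v => ?_⟩
  rw [polar_smul_right']
  suffices hS : K d = ⊤ from (hS ▸ Submodule.mem_top : v ∈ K d)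
  refine hzero ?_ fun v hv => by
    show d * _ ∈ F₀
    rw [hpU v hv, mul_zero]; exact F₀.zero_mem
  have hmem : ∀ u' w : R.V₀, u' ∈ U → R.Q₀ u' = 0 → u' ∈ K d → polar Q (u' : V) p ≠ 0 → w ∈ U → R.Q₀ w = 0 →
      polar R.Q₀ u' w = 0 → w ∈ K d := by
    intro u' w hu' hQu' hK hne' hw hQw huw
    have := F₀.mul_mem hK (ratio_mem hQ hn hX hT hb hQb hU hbU hpU hu' hw hQu' hQw huw hne')
    show d * _ ∈ F₀
    convert this using 1
    field_simp
  have huK : u ∈ K d := by
    show d * _ ∈ F₀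
    rw [hd', inv_mul_cancel₀ hne]; exact F₀.one_mem
  -- the hyperplane orthogonal to a singular vector with nonzero value
  have hhyp : ∀ u' : R.V₀, u' ∈ U → u' ≠ 0 → R.Q₀ u' = 0 → u' ∈ K d → polar Q (u' : V) p ≠ 0 →
      ∀ v ∈ U, polar R.Q₀ u' v = 0 → v ∈ K d := by
    intro u' hu' hu'0 hQu' hK hne' v hv huv
    obtain ⟨f, hfU, hf, huf, C, hCU, hC, hdC, hCu, hCm⟩ := exists_hyp_at R.nondeg hU hu' hu'0 hQu'
    have hCK : C ≤ K d := le_of_singular hC (by omega) _ fun x hx hQx =>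
      hmem u' x hu' hQu' hK hne' (hCU hx) hQx (hCu x hx).1
    have h1 : v - polar R.Q₀ f v • u' ∈ C := hCm _ (U.sub_mem hv (U.smul_mem _ hu'))
      (by simp only [polar_sub_right, polar_smul_right', polar_self', hQu', huv]; ring)
      (by simp only [polar_sub_right, polar_smul_right', polar_comm (⇑R.Q₀) f u', huf]; ring)
    have := (K d).add_mem (hCK h1) ((K d).smul_mem (polar R.Q₀ f v) hK)
    rwa [sub_add_cancel] at this
  obtain ⟨f, hfU, hf, huf, C, hCU, hC, hdC, hCu, hCm⟩ := exists_hyp_at R.nondeg hU hu hu0 hQu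
  obtain ⟨⟨x₀, hx₀⟩, hx₀0, hQx₀⟩ := hC.exists_singular (by omega)
  rw [restr_apply] at hQx₀
  have hx0 : x₀ ≠ 0 := fun e => hx₀0 (Subtype.ext e)
  obtain ⟨x, hxC, hx0', hQx, hxne⟩ : ∃ x ∈ C, x ≠ 0 ∧ R.Q₀ x = 0 ∧ polar Q ((u + x : R.V₀) : V) p ≠ 0 := by
    by_cases h1 : polar Q ((u + x₀ : R.V₀) : V) p = 0
    · refine ⟨-x₀, C.neg_mem hx₀, neg_ne_zero.2 hx0, by rw [QuadraticMap.map_neg, hQx₀], fun h3 => hne ?_⟩
      rw [Submodule.coe_add, polar_add_left] at h1 h3
      rw [NegMemClass.coe_neg, polar_neg_left] at h3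
      exact (mul_eq_zero.1 (show (2 : F) * polar Q (u : V) p = 0 by linear_combination h1 + h3)).resolve_left h2
    · exact ⟨x₀, hx₀, hx0, hQx₀, h1⟩
  set u₁ := u + x with hu₁
  have hu₁U : u₁ ∈ U := U.add_mem hu (hCU hxC)
  have hQu₁ : R.Q₀ u₁ = 0 := by rw [hu₁, map_add_polar, hQu, hQx, (hCu x hxC).1]; ring
  have hxK : x ∈ K d := hmem u x hu hQu huK hne (hCU hxC) hQx (hCu x hxC).1
  have hu₁0 : u₁ ≠ 0 := fun e => hxne (by rw [e, ZeroMemClass.coe_zero, polar_zero_left])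
  -- a vector of the second hyperplane off the first
  obtain ⟨x', hx'C, -, hxx', -⟩ := exists_hyp_at R.nondeg hC hxC hx0' hQx
  have hfK : f ∈ K d := by
    have h1 : f - x' ∈ K d := hhyp u₁ hu₁U hu₁0 hQu₁ ((K d).add_mem huK hxK) hxne _
      (U.sub_mem hfU (hCU hx'C))
      (by rw [hu₁, polar_add_left, polar_sub_right, polar_sub_right, huf, (hCu x' hx'C).1, hxx',
        polar_comm (⇑R.Q₀) x f, (hCu x hxC).2]; ring)
    have h2 : x' ∈ K d := hhyp u hu hu0 hQu huK hne x' (hCU hx'C) (hCu x' hx'C).1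
    have := (K d).add_mem h1 h2
    rwa [sub_add_cancel] at this
  intro v hv
  have h1 : v - polar R.Q₀ u v • f ∈ K d := hhyp u hu hu0 hQu huK hne _ (U.sub_mem hv (U.smul_mem _ hfU))
    (by rw [polar_sub_right, polar_smul_right', huf, mul_one, sub_self])
  have := (K d).add_mem h1 ((K d).smul_mem (polar R.Q₀ u v) hfK)
  rwa [sub_add_cancel] at this

end Cfsg.Agent.H85.OddSubfield
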